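import Mathlib.Algebra.Homology.Refinements
import Mathlib.Algebra.Homology.HomologicalComplexAbelian
import Mathlib.Algebra.Homology.Opposite
import Mathlib.Algebra.Homology.Embedding.CochainComplex
import Mathlib.Algebra.Homology.Embedding.TruncLEHomology
import Mathlib.Algebra.Homology.Embedding.StupidTrunc
import Mathlib.CategoryTheory.Abelian.Opposite

/-!
Resolutions by objects of a class with enough quotients (resp. subobjects).
-/

set_option autoImplicit false
set_option linter.unusedSectionVars false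
set_option linter.style.haveILetI false
set_option backward.isDefEq.respectTransparency false
universe v u

namespace Groth.Agent.CohDerRes

open CategoryTheory Limits HomologicalComplex Opposite

variable {A : Type u} [Category.{v} A] [Abelian A]

section Chain

variable {P : A → Prop} (L : ChainComplex A ℕ)

/-- a level of the resolution -/
structure Lvl (P : A → Prop) (L : ChainComplex A ℕ) (k : ℕ) where
  /-- the term -/
  Q : A
  hQ : P Q
  /-- the augmentation -/
  α : Q ⟶ L.X k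
  /-- the cycles -/
  Z : A
  /-- their inclusion -/
  z : Z ⟶ Q
  epiα : Epi α
  lift : ∀ ⦃T : A⦄ (x : T ⟶ L.X k), x ≫ L.d k (k - 1) = 0 →
    ∃ (T' : A) (π : T' ⟶ T) (_ : Epi π) (w : T' ⟶ Z), π ≫ x = w ≫ z ≫ α
  cyc : z ≫ α ≫ L.d k (k - 1) = 0

variable (hP : ∀ X : A, ∃ (Y : A) (π : Y ⟶ X), P Y ∧ Epi π)

/-- the pullback to be covered -/
noncomputable abbrev Lvl.W {k : ℕ} (l : Lvl P L k) : A := pullback (L.d (k + 1) k) (l.z ≫ l.α)

/-- the next term -/
noncomputable def Lvl.Q' {k : ℕ} (l : Lvl P L k) : A := (hP l.W).choose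

/-- its covering map -/
noncomputable def Lvl.c {k : ℕ} (l : Lvl P L k) : l.Q' L hP ⟶ l.W := (hP l.W).choose_spec.choose

/-- the next differential -/
noncomputable def Lvl.d {k : ℕ} (l : Lvl P L k) : l.Q' L hP ⟶ l.Q :=
  l.c L hP ≫ pullback.snd _ _ ≫ l.z

instance {k : ℕ} (l : Lvl P L k) : Epi (l.c L hP) := (hP l.W).choose_spec.choose_spec.2

lemma Lvl.d_α {k : ℕ} (l : Lvl P L k) :
    (l.c L hP ≫ pullback.fst _ _) ≫ L.d (k + 1) k = l.d L hP ≫ l.α := by
  simp [Lvl.d, Category.assoc, pullback.condition]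

/-- the next level -/
noncomputable def Lvl.next {k : ℕ} (l : Lvl P L k) : Lvl P L (k + 1) where
  Q := l.Q' L hP
  hQ := (hP l.W).choose_spec.choose_spec.1
  α := l.c L hP ≫ pullback.fst _ _
  Z := kernel (l.d L hP)
  z := kernel.ι _
  epiα := by
    obtain ⟨T', π, _, w, hw⟩ := l.lift (L.d (k + 1) k) (L.d_comp_d _ _ _)
    haveI : Epi (pullback.fst (L.d (k + 1) k) (l.z ≫ l.α)) :=
      epi_of_epi_fac (pullback.lift_fst π w hw)
    infer_instance
  lift T x hx := by
    replace hx : x ≫ L.d (k + 1) k = 0 := hx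
    obtain ⟨T', π, hπ, q, hq⟩ := surjective_up_to_refinements_of_epi (l.c L hP)
      (pullback.lift x 0 (by rw [hx, zero_comp]))
    have hqd : q ≫ l.d L hP = 0 := by
      rw [Lvl.d, ← Category.assoc q, ← hq]
      simp
    refine ⟨T', π, hπ, kernel.lift _ q hqd, ?_⟩
    rw [kernel.lift_ι_assoc, ← Category.assoc q, ← hq, Category.assoc, pullback.lift_fst]
  cyc := by
    change kernel.ι _ ≫ (l.c L hP ≫ pullback.fst _ _) ≫ L.d (k + 1) k = 0
    rw [Lvl.d_α, kernel.condition_assoc, zero_comp]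

/-- the bottom level -/
noncomputable def lvl₀ : Lvl P L 0 where
  Q := (hP (L.X 0)).choose
  hQ := (hP (L.X 0)).choose_spec.choose_spec.1
  α := (hP (L.X 0)).choose_spec.choose
  Z := (hP (L.X 0)).choose
  z := 𝟙 _
  epiα := (hP (L.X 0)).choose_spec.choose_spec.2
  lift T x _ := by
    haveI := (hP (L.X 0)).choose_spec.choose_spec.2
    obtain ⟨T', π, hπ, w, hw⟩ := surjective_up_to_refinements_of_epi (hP (L.X 0)).choose_spec.choose x
    exact ⟨T', π, hπ, w, by rw [Category.id_comp, hw]⟩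
  cyc := by simp

/-- the levels -/
noncomputable def lvl : ∀ k, Lvl P L k
  | 0 => lvl₀ L hP
  | k + 1 => (lvl k).next L hP

/-- the resolving chain complex -/
noncomputable def res : ChainComplex A ℕ :=
  ChainComplex.of (fun k => (lvl L hP k).Q) (fun k => (lvl L hP k).d L hP) fun k => by
    change ((lvl L hP (k + 1)).c L hP ≫ pullback.snd _ _ ≫ kernel.ι ((lvl L hP k).d L hP)) ≫
      (lvl L hP k).d L hP = 0
    simp

lemma res_d (k : ℕ) : (res L hP).d (k + 1) k = (lvl L hP k).d L hP :=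
  ChainComplex.of_d (fun k => (lvl L hP k).Q) (fun k => (lvl L hP k).d L hP) k

/-- the augmentation -/
noncomputable def aug : res L hP ⟶ L where
  f k := (lvl L hP k).α
  comm' i j (h : j + 1 = i) := by
    subst h
    rw [res_d]
    exact Lvl.d_α L hP (lvl L hP j)

lemma z_d (k : ℕ) : (lvl L hP k).z ≫ (res L hP).d k (k - 1) = 0 := by
  cases k with
  | zero =>
    rw [(res L hP).shape 0 (0 - 1) (by simp), comp_zero]
  | succ k =>
    change kernel.ι ((lvl L hP k).d L hP) ≫ (res L hP).d (k + 1) k = 0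
    rw [res_d]
    exact kernel.condition _

lemma exists_factor_z (k : ℕ) {T : A} (x : T ⟶ (res L hP).X k)
    (hx : x ≫ (res L hP).d k (k - 1) = 0) : ∃ w : T ⟶ (lvl L hP k).Z, w ≫ (lvl L hP k).z = x := by
  cases k with
  | zero => exact ⟨x, Category.comp_id x⟩
  | succ k =>
    have hx' : x ≫ (res L hP).d (k + 1) k = 0 := hx
    rw [res_d] at hx'
    exact ⟨kernel.lift _ x hx', kernel.lift_ι _ _ _⟩

lemma quasiIso_aug : QuasiIso (aug L hP) where
  quasiIsoAt k := by
    rw [quasiIsoAt_iff_isIso_homologyMap]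
    have hn : (ComplexShape.down ℕ).next k = k - 1 := by cases k <;> simp
    have hp : (ComplexShape.down ℕ).prev k = k + 1 := by simp
    have : Epi (homologyMap (aug L hP) k) := by
      rw [epi_homologyMap_iff_up_to_refinements _ (k + 1) k (k - 1) hp hn]
      intro T y hy
      obtain ⟨T', π, hπ, w, hw⟩ := (lvl L hP k).lift y hy
      refine ⟨T', π, hπ, w ≫ (lvl L hP k).z, ?_, 0, ?_⟩
      · erw [Category.assoc, z_d, comp_zero]
      · rw [zero_comp, add_zero, hw]
        exact (Category.assoc _ _ _).symm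
    have : Mono (homologyMap (aug L hP) k) := by
      rw [mono_homologyMap_iff_up_to_refinements _ (k + 1) k (k - 1) hp hn]
      intro T x hx y hy
      obtain ⟨w, hw⟩ := exists_factor_z L hP k x hx
      obtain ⟨T', π, hπ, q, hq⟩ := surjective_up_to_refinements_of_epi ((lvl L hP k).c L hP)
        (pullback.lift y w (by rw [← hy, ← hw, Category.assoc]; rfl))
      refine ⟨T', π, hπ, q, ?_⟩
      erw [res_d]
      rw [Lvl.d, ← Category.assoc q, ← hq, Category.assoc, pullback.lift_snd_assoc, hw]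
    exact isIso_of_mono_of_epi _

include hP in
/-- resolution of a chain complex -/
theorem exists_chain_resolution : ∃ (R : ChainComplex A ℕ) (α : R ⟶ L),
    (∀ k, P (R.X k)) ∧ (∀ k, Epi (α.f k)) ∧ QuasiIso α :=
  ⟨res L hP, aug L hP, fun k => (lvl L hP k).hQ, fun k => (lvl L hP k).epiα, quasiIso_aug L hP⟩

end Chain

/-- coresolution of a cochain complex -/
theorem exists_cochain_coresolution {I : A → Prop}
    (hI : ∀ X : A, ∃ (Y : A) (ι : X ⟶ Y), I Y ∧ Mono ι) (L : CochainComplex A ℕ) :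
    ∃ (R : CochainComplex A ℕ) (α : L ⟶ R),
      (∀ k, I (R.X k)) ∧ (∀ k, Mono (α.f k)) ∧ QuasiIso α := by
  obtain ⟨R, α, hR, he, hq⟩ := exists_chain_resolution (A := Aᵒᵖ) (P := fun X => I X.unop) L.op
    fun X => by
      obtain ⟨Y, ι, hY, hι⟩ := hI X.unop
      exact ⟨op Y, ι.op, hY, inferInstanceAs (Epi ι.op)⟩
  refine ⟨R.unop, (unopFunctor A (ComplexShape.down ℕ)).map α.op, hR,
    fun k => haveI := he k; inferInstanceAs (Mono (α.f k).unop), ?_⟩
  haveI := hq
  exact inferInstanceAs (QuasiIso ((unopFunctor A (ComplexShape.down ℕ)).map α.op))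

/-- replacing the terms of a complex by isomorphic objects -/
lemma exists_iso_replace {ι : Type*} {c : ComplexShape ι} (K : HomologicalComplex A c)
    (Y : ι → A) (e : ∀ i, Y i ≅ K.X i) :
    ∃ (K' : HomologicalComplex A c) (_ : K' ≅ K), K'.X = Y := by
  let K' : HomologicalComplex A c :=
    { X := Y
      d := fun i j => (e i).hom ≫ K.d i j ≫ (e j).inv
      shape := fun i j h => by simp [K.shape i j h]
      d_comp_d' := fun i j k _ _ => by simp }
  exact ⟨K', Hom.isoOfComponents e (fun i j _ => by simp [K']), rfl⟩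

variable {P : A → Prop} (hP0 : ∃ Z : A, IsZero Z ∧ P Z) {ι : Type} {c : ComplexShape ι}
  (e : c.Embedding (ComplexShape.up ℤ))

include hP0 in
lemma exists_replace_extend (R : HomologicalComplex A c) (hR : ∀ k, P (R.X k)) :
    ∃ (Q : CochainComplex A ℤ) (_ : Q ≅ R.extend e), ∀ n, P (Q.X n) := by
  classical
  obtain ⟨Z, hZ, hPZ⟩ := hP0
  have key : ∀ n, ∃ Y : A, P Y ∧ Nonempty (Y ≅ (R.extend e).X n) := by
    intro n
    by_cases h : ∃ k, e.f k = n
    · obtain ⟨k, hk⟩ := h
      exact ⟨R.X k, hR k, ⟨(R.extendXIso e hk).symm⟩⟩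
    · exact ⟨Z, hPZ, ⟨hZ.iso (R.isZero_extend_X e n fun k hk => h ⟨k, hk⟩)⟩⟩
  choose Y hY ψ using key
  obtain ⟨Q, i, hQ⟩ := exists_iso_replace (R.extend e) Y fun n => (ψ n).some
  exact ⟨Q, i, fun n => hQ ▸ hY n⟩

/-- the comparison of a supported complex with the extension of its restriction -/
lemma nonempty_stupidTrunc_iso [e.IsRelIff] (K : CochainComplex A ℤ) [K.IsStrictlySupported e] :
    Nonempty ((K.restriction e).extend e ≅ K) := by
  classical
  have key : ∀ n, ∃ ψ : (K.stupidTrunc e).X n ≅ K.X n,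
      ∀ k (hk : e.f k = n), ψ = K.stupidTruncXIso e hk := by
    intro n
    by_cases h : ∃ k, e.f k = n
    · obtain ⟨k, hk⟩ := h
      refine ⟨K.stupidTruncXIso e hk, fun k' hk' => ?_⟩
      obtain rfl := e.injective_f (hk.trans hk'.symm)
      rfl
    · exact ⟨(K.isZero_stupidTrunc_X e n fun k hk => h ⟨k, hk⟩).iso
        (K.isZero_X_of_isStrictlySupported e n fun k hk => h ⟨k, hk⟩), fun k hk => absurd ⟨k, hk⟩ h⟩
  choose ψ hψ using key
  refine ⟨Hom.isoOfComponents ψ fun i j _ => ?_⟩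
  by_cases hi : ∃ k, e.f k = i
  · obtain ⟨k, hk⟩ := hi
    by_cases hj : ∃ l, e.f l = j
    · obtain ⟨l, hl⟩ := hj
      rw [hψ i k hk, hψ j l hl]
      subst hk hl
      simp [stupidTrunc, stupidTruncXIso, extend_d_eq _ e rfl rfl, restriction]
    · exact (K.isZero_X_of_isStrictlySupported e j fun l hl => hj ⟨l, hl⟩).eq_of_tgt _ _
  · exact (K.isZero_stupidTrunc_X e i fun k hk => hi ⟨k, hk⟩).eq_of_src _ _

lemma epi_extendMap_f {R S : HomologicalComplex A c} (α : R ⟶ S) (h : ∀ k, Epi (α.f k)) (n : ℤ) :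
    Epi ((extendMap α e).f n) := by
  by_cases hn : ∃ k, e.f k = n
  · obtain ⟨k, hk⟩ := hn
    rw [extendMap_f α e hk]
    haveI := h k
    infer_instance
  · exact ⟨fun g g' _ => (S.isZero_extend_X e n fun k hk => hn ⟨k, hk⟩).eq_of_src _ _⟩

lemma mono_extendMap_f {R S : HomologicalComplex A c} (α : R ⟶ S) (h : ∀ k, Mono (α.f k)) (n : ℤ) :
    Mono ((extendMap α e).f n) := by
  by_cases hn : ∃ k, e.f k = n
  · obtain ⟨k, hk⟩ := hn
    rw [extendMap_f α e hk]
    haveI := h k
    infer_instance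
  · exact ⟨fun g g' _ => (R.isZero_extend_X e n fun k hk => hn ⟨k, hk⟩).eq_of_tgt _ _⟩

include hP0 in
/-- left resolutions of bounded above complexes -/
theorem exists_left_resolution (hP : ∀ X : A, ∃ (Y : A) (π : Y ⟶ X), P Y ∧ Epi π)
    (K : CochainComplex A ℤ) (a : ℤ) [K.IsStrictlyLE a] :
    ∃ (Q : CochainComplex A ℤ) (α : Q ⟶ K),
      Q.IsStrictlyLE a ∧ (∀ n, P (Q.X n)) ∧ (∀ n, Epi (α.f n)) ∧ QuasiIso α := by
  let e := ComplexShape.embeddingUpIntLE a
  obtain ⟨R, α, hR, he, hq⟩ := exists_chain_resolution (K.restriction e) hP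
  obtain ⟨Q, i, hQ⟩ := exists_replace_extend hP0 e R hR
  obtain ⟨j⟩ := nonempty_stupidTrunc_iso e K
  refine ⟨Q, i.hom ≫ extendMap α e ≫ j.hom, isStrictlySupported_of_iso i.symm e, hQ,
    fun n => ?_, inferInstance⟩
  haveI := epi_extendMap_f e α he n
  haveI : IsIso (i.hom.f n) := inferInstanceAs (IsIso ((eval A (ComplexShape.up ℤ) n).map i.hom))
  haveI : IsIso (j.hom.f n) := inferInstanceAs (IsIso ((eval A (ComplexShape.up ℤ) n).map j.hom))
  rw [HomologicalComplex.comp_f, HomologicalComplex.comp_f]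
  infer_instance

include hP0 in
/-- right resolutions of bounded below complexes -/
theorem exists_right_resolution (hP : ∀ X : A, ∃ (Y : A) (ι : X ⟶ Y), P Y ∧ Mono ι)
    (K : CochainComplex A ℤ) (a : ℤ) [K.IsStrictlyGE a] :
    ∃ (L : CochainComplex A ℤ) (α : K ⟶ L),
      L.IsStrictlyGE a ∧ (∀ n, P (L.X n)) ∧ (∀ n, Mono (α.f n)) ∧ QuasiIso α := by
  let e := ComplexShape.embeddingUpIntGE a
  obtain ⟨R, α, hR, he, hq⟩ := exists_cochain_coresolution hP (K.restriction e)
  obtain ⟨Q, i, hQ⟩ := exists_replace_extend hP0 e R hR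
  obtain ⟨j⟩ := nonempty_stupidTrunc_iso e K
  refine ⟨Q, j.inv ≫ extendMap α e ≫ i.inv, isStrictlySupported_of_iso i.symm e, hQ,
    fun n => ?_, inferInstance⟩
  haveI := mono_extendMap_f e α he n
  haveI : IsIso (i.inv.f n) := inferInstanceAs (IsIso ((eval A (ComplexShape.up ℤ) n).map i.inv))
  haveI : IsIso (j.inv.f n) := inferInstanceAs (IsIso ((eval A (ComplexShape.up ℤ) n).map j.inv))
  rw [HomologicalComplex.comp_f, HomologicalComplex.comp_f]
  infer_instance

include hP0 in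
/-- left resolutions of cohomologically bounded above complexes -/
theorem exists_left_resolution' (hP : ∀ X : A, ∃ (Y : A) (π : Y ⟶ X), P Y ∧ Epi π)
    (K : CochainComplex A ℤ) (a : ℤ) (hK : ∀ n : ℤ, a < n → IsZero (K.homology n)) :
    ∃ (Q : CochainComplex A ℤ) (α : Q ⟶ K), Q.IsStrictlyLE a ∧ (∀ n, P (Q.X n)) ∧ QuasiIso α := by
  obtain ⟨Q, α, hQ, hP', -, hq⟩ := exists_left_resolution hP0 hP (K.truncLE a) a
  haveI : K.IsLE a := (CochainComplex.isLE_iff K a).2 fun n hn =>
    (exactAt_iff_isZero_homology K n).2 (hK n hn)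
  haveI : QuasiIso (K.ιTruncLE a) :=
    (HomologicalComplex.quasiIso_ιTruncLE_iff_isSupported K (ComplexShape.embeddingUpIntLE a)).2 inferInstance
  exact ⟨Q, α ≫ K.ιTruncLE a, hQ, hP', inferInstance⟩

include hP0 in
/-- right resolutions of cohomologically bounded below complexes -/
theorem exists_right_resolution' (hP : ∀ X : A, ∃ (Y : A) (ι : X ⟶ Y), P Y ∧ Mono ι)
    (K : CochainComplex A ℤ) (a : ℤ) (hK : ∀ n : ℤ, n < a → IsZero (K.homology n)) :
    ∃ (L : CochainComplex A ℤ) (α : K ⟶ L), L.IsStrictlyGE a ∧ (∀ n, P (L.X n)) ∧ QuasiIso α := by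
  obtain ⟨Q, α, hQ, hP', -, hq⟩ := exists_right_resolution hP0 hP (K.truncGE a) a
  haveI : K.IsGE a := (CochainComplex.isGE_iff K a).2 fun n hn =>
    (exactAt_iff_isZero_homology K n).2 (hK n hn)
  haveI : QuasiIso (K.πTruncGE a) :=
    (HomologicalComplex.quasiIso_πTruncGE_iff_isSupported K (ComplexShape.embeddingUpIntGE a)).2 inferInstance
  exact ⟨Q, K.πTruncGE a ≫ α, hQ, hP', inferInstance⟩

end Groth.Agent.CohDerRes
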