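import Groth.Agent.CohDerRes.Left
import Mathlib.Algebra.Homology.HomotopyCategory.MappingCone

/-!
Relative resolutions: a morphism from/to a complex with terms in a class is replaced by a degreewise
split one with complements in the class.
-/

set_option autoImplicit false
set_option linter.unusedSectionVars false
set_option linter.style.haveILetI false
set_option backward.isDefEq.respectTransparency false
universe v u

namespace Groth.Agent.CohDerRes

open CategoryTheory Limits HomologicalComplex CochainComplex HomComplex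

variable {A : Type u} [Category.{v} A] [Abelian A]

section Refine

variable {K L : CochainComplex A ℤ} (f : K ⟶ L) [QuasiIso f]

lemma exists_lift_cycle (n : ℤ) {T : A} (y : T ⟶ L.X n) (hy : y ≫ L.d n (n + 1) = 0) :
    ∃ (T' : A) (π : T' ⟶ T) (_ : Epi π) (x : T' ⟶ K.X n) (_ : x ≫ K.d n (n + 1) = 0)
      (y₁ : T' ⟶ L.X (n - 1)), π ≫ y = x ≫ f.f n + y₁ ≫ L.d (n - 1) n :=
  (epi_homologyMap_iff_up_to_refinements f (n - 1) n (n + 1) (by simp) (by simp)).1
    inferInstance y hy

lemma exists_lift_boundary (n : ℤ) {T : A} (x : T ⟶ K.X n) (hx : x ≫ K.d n (n + 1) = 0)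
    (y : T ⟶ L.X (n - 1)) (h : x ≫ f.f n = y ≫ L.d (n - 1) n) :
    ∃ (T' : A) (π : T' ⟶ T) (_ : Epi π) (x₁ : T' ⟶ K.X (n - 1)),
      π ≫ x = x₁ ≫ K.d (n - 1) n :=
  (mono_homologyMap_iff_up_to_refinements f (n - 1) n (n + 1) (by simp) (by simp)).1
    inferInstance x hx y h

end Refine

section Left

variable {K H Q : CochainComplex A ℤ} (u : K ⟶ H) (a : Q ⟶ mappingCone u)

/-- the component to `K` -/
noncomputable def aFst (i j : ℤ) : Q.X i ⟶ K.X j :=
  if h : i + 1 = j then a.f i ≫ (mappingCone.fst u).1.v i j h else 0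

lemma aFst_eq (i j : ℤ) (h : i + 1 = j) :
    aFst u a i j = a.f i ≫ (mappingCone.fst u).1.v i j h := dif_pos h

/-- the component to `H` -/
noncomputable def aSnd (i : ℤ) : Q.X i ⟶ H.X i :=
  a.f i ≫ (mappingCone.snd u).v i i (add_zero i)

lemma d_aFst (i j k : ℤ) (hij : i + 1 = j) (hjk : j + 1 = k) :
    Q.d i j ≫ aFst u a j k = -(aFst u a i j ≫ K.d j k) := by
  rw [aFst_eq u a i j hij, aFst_eq u a j k hjk, ← a.comm_assoc,
    mappingCone.d_fst_v u i j k hij hjk]
  simp

lemma d_aSnd (i j : ℤ) (hij : i + 1 = j) :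
    Q.d i j ≫ aSnd u a j = aFst u a i j ≫ u.f j + aSnd u a i ≫ H.d i j := by
  rw [aFst_eq u a i j hij, aSnd, aSnd, ← a.comm_assoc, mappingCone.d_snd_v u i j hij]
  simp

/-- the extension of `K` -/
noncomputable def ext : CochainComplex A ℤ where
  X n := K.X n ⊞ Q.X n
  d i j := biprod.desc (K.d i j ≫ biprod.inl) (Q.d i j ≫ biprod.inr - aFst u a i j ≫ biprod.inl)
  shape i j h := by
    rw [K.shape i j h, Q.shape i j h, show aFst u a i j = 0 from dif_neg h]
    ext <;> simp
  d_comp_d' i j k hij hjk := by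
    refine biprod.hom_ext' _ _ ?_ ?_
    · simp
    · simp only [biprod.inr_desc_assoc, comp_zero, Preadditive.sub_comp, Category.assoc,
        biprod.inr_desc, biprod.inl_desc, Preadditive.comp_sub, Q.d_comp_d_assoc, zero_comp,
        ← Category.assoc (Q.d i j) (aFst u a j k), d_aFst u a i j k hij hjk]
      simp

lemma inl_ext_d (i j : ℤ) : biprod.inl ≫ (ext u a).d i j = K.d i j ≫ biprod.inl := biprod.inl_desc _ _

lemma inr_ext_d (i j : ℤ) :
    biprod.inr ≫ (ext u a).d i j = Q.d i j ≫ biprod.inr - aFst u a i j ≫ biprod.inl :=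
  biprod.inr_desc _ _

/-- the inclusion -/
noncomputable def extι : K ⟶ ext u a where
  f n := biprod.inl
  comm' i j _ := inl_ext_d u a i j

/-- the map to `H` -/
noncomputable def extπ : ext u a ⟶ H where
  f n := biprod.desc (u.f n) (aSnd u a n)
  comm' i j hij := by
    refine biprod.hom_ext' _ _ ?_ ?_
    · erw [reassoc_of% (inl_ext_d u a i j), biprod.inl_desc, biprod.inl_desc_assoc]
      exact u.comm i j
    · erw [reassoc_of% (inr_ext_d u a i j), biprod.inr_desc_assoc]
      rw [Preadditive.sub_comp, Category.assoc, Category.assoc, biprod.inr_desc, biprod.inl_desc,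
        d_aSnd u a i j hij]
      simp

lemma extι_extπ : extι u a ≫ extπ u a = u := by
  ext n
  exact biprod.inl_desc _ _

lemma comp_ext_d {T : A} {i : ℤ} (x : T ⟶ (ext u a).X i) (j : ℤ) :
    x ≫ (ext u a).d i j =
      (x ≫ biprod.fst ≫ K.d i j - x ≫ biprod.snd ≫ aFst u a i j) ≫ biprod.inl +
        (x ≫ biprod.snd ≫ Q.d i j) ≫ biprod.inr := by
  conv_lhs => rw [← Category.comp_id x, show 𝟙 ((ext u a).X i) = biprod.fst ≫ biprod.inl +
    biprod.snd ≫ biprod.inr from biprod.total.symm]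
  simp only [Preadditive.comp_add, Preadditive.add_comp, Category.assoc]
  erw [inl_ext_d, inr_ext_d]
  simp only [Preadditive.comp_sub, Preadditive.sub_comp, Category.assoc]
  abel

lemma comp_extπ {T : A} {i : ℤ} (x : T ⟶ (ext u a).X i) :
    x ≫ (extπ u a).f i = x ≫ biprod.fst ≫ u.f i + x ≫ biprod.snd ≫ aSnd u a i := by
  conv_lhs => rw [← Category.comp_id x, show 𝟙 ((ext u a).X i) = biprod.fst ≫ biprod.inl +
    biprod.snd ≫ biprod.inr from biprod.total.symm]
  simp [extπ]

lemma epi_extπ (h : ∀ n, Epi (a.f n)) (n : ℤ) : Epi ((extπ u a).f n) := by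
  haveI := h n
  haveI : IsSplitEpi ((mappingCone.snd u).v n n (add_zero n)) :=
    IsSplitEpi.mk' ⟨(mappingCone.inr u).f n, by simp⟩
  haveI : Epi (aSnd u a n) := epi_comp _ _
  exact epi_of_epi_fac (show biprod.inr ≫ (extπ u a).f n = aSnd u a n from
    biprod.inr_desc _ _)

variable [QuasiIso a]

lemma mono_homologyMap_extπ (n : ℤ) : Mono (homologyMap (extπ u a) n) := by
  rw [mono_homologyMap_iff_up_to_refinements _ (n - 1) n (n + 1) (by simp) (by simp)]
  intro T x hx h hh
  rw [comp_ext_d] at hx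
  have h₁ : x ≫ biprod.fst ≫ K.d n (n + 1) = x ≫ biprod.snd ≫ aFst u a n (n + 1) := by
    have := congrArg (fun t => t ≫ biprod.fst) hx
    simpa [sub_eq_zero] using this
  have h₂ : x ≫ biprod.snd ≫ Q.d n (n + 1) = 0 := by
    have := congrArg (fun t => t ≫ biprod.snd) hx
    simpa using this
  rw [comp_extπ] at hh
  have key : (x ≫ biprod.snd) ≫ a.f n = (-(x ≫ biprod.fst) ≫ (mappingCone.inl u).v n (n - 1) (by lia) +
      h ≫ (mappingCone.inr u).f (n - 1)) ≫ (mappingCone u).d (n - 1) n := by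
    refine (mappingCone.ext_to_iff u n (n + 1) rfl _ _).2 ⟨?_, ?_⟩
    · simp only [Category.assoc, mappingCone.d_fst_v u (n - 1) n (n + 1) (by lia) rfl]
      simp [← aFst_eq u a n (n + 1) rfl, h₁]
    · simp only [Category.assoc, mappingCone.d_snd_v u (n - 1) n (by lia)]
      simp
      rw [← hh]
      simp [aSnd]
  obtain ⟨T', π, hπ, q, hq⟩ := exists_lift_boundary a n (x ≫ biprod.snd)
    (by rw [Category.assoc, h₂]) _ key
  have hc : (q ≫ a.f (n - 1) - π ≫ (-(x ≫ biprod.fst) ≫ (mappingCone.inl u).v n (n - 1) (by lia) +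
      h ≫ (mappingCone.inr u).f (n - 1))) ≫ (mappingCone u).d (n - 1) n = 0 := by
    rw [Preadditive.sub_comp, Category.assoc, a.comm, ← reassoc_of% hq, Category.assoc π _ _,
      ← key, Category.assoc x, sub_self]
  obtain ⟨T'', π', hπ', q₂, hq₂, c, hc'⟩ := exists_lift_cycle a (n - 1)
    (q ≫ a.f (n - 1) - π ≫ (-(x ≫ biprod.fst) ≫ (mappingCone.inl u).v n (n - 1) (by lia) +
      h ≫ (mappingCone.inr u).f (n - 1)))
    (by rw [show n - 1 + 1 = n by lia]; exact hc)
  have hq₂' : q₂ ≫ Q.d (n - 1) n = 0 := by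
    rw [show n - 1 + 1 = n by lia] at hq₂; exact hq₂
  refine ⟨T'', π' ≫ π, inferInstance,
    (-(c ≫ (mappingCone.fst u).1.v (n - 1 - 1) (n - 1) (by lia))) ≫ biprod.inl +
      (π' ≫ q - q₂) ≫ biprod.inr, ?_⟩
  have hc₁ := congrArg (fun t => t ≫ (mappingCone.fst u).1.v (n - 1) n (by lia)) hc'
  simp [mappingCone.d_fst_v u (n - 1 - 1) (n - 1) n (by lia) (by lia),
    ← aFst_eq u a (n - 1) n (by lia)] at hc₁
  rw [comp_ext_d]
  apply biprod.hom_ext
  · simp
    rw [eq_sub_iff_add_eq] at *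
    rw [← sub_eq_zero] at hc₁ ⊢
    refine Eq.trans ?_ hc₁
    abel
  · simp [hq₂', ← hq]

lemma epi_homologyMap_extπ (n : ℤ) : Epi (homologyMap (extπ u a) n) := by
  rw [epi_homologyMap_iff_up_to_refinements _ (n - 1) n (n + 1) (by simp) (by simp)]
  intro T y hy
  obtain ⟨T', π, hπ, q, hq, c, hc⟩ := exists_lift_cycle a n (y ≫ (mappingCone.inr u).f n)
    (by rw [Category.assoc, (mappingCone.inr u).comm, ← Category.assoc, hy, zero_comp])
  have hc₁ := congrArg (fun t => t ≫ (mappingCone.fst u).1.v n (n + 1) rfl) hc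
  simp [mappingCone.d_fst_v u (n - 1) n (n + 1) (by lia) rfl, ← aFst_eq u a n (n + 1) rfl] at hc₁
  have hc₂ := congrArg (fun t => t ≫ (mappingCone.snd u).v n n (add_zero n)) hc
  simp [mappingCone.d_snd_v u (n - 1) n (by lia)] at hc₂
  refine ⟨T', π, hπ, (c ≫ (mappingCone.fst u).1.v (n - 1) n (by lia)) ≫ biprod.inl + q ≫ biprod.inr,
    ?_, c ≫ (mappingCone.snd u).v (n - 1) (n - 1) (add_zero _), ?_⟩
  · rw [comp_ext_d]
    apply biprod.hom_ext
    · simp
      simp [add_neg_eq_zero, neg_add_eq_zero, sub_eq_zero] at hc₁ ⊢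
      rw [eq_comm, ← sub_eq_zero, sub_eq_add_neg]
      exact hc₁.symm
    · simp [hq]
  · rw [comp_extπ, hc₂]
    simp [aSnd]
    abel

lemma quasiIso_extπ : QuasiIso (extπ u a) where
  quasiIsoAt n := by
    rw [quasiIsoAt_iff_isIso_homologyMap]
    haveI := mono_homologyMap_extπ u a n
    haveI := epi_homologyMap_extπ u a n
    exact isIso_of_mono_of_epi _

end Left

section Right

variable {H K Q : CochainComplex A ℤ} (v : H ⟶ K) (a : mappingCone v ⟶ Q)

/-- the component from `K` -/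
noncomputable def aInr (i j : ℤ) : K.X i ⟶ Q.X (j - 1) :=
  if h : i + 1 = j then
    (mappingCone.inr v).f i ≫ a.f i ≫ (Q.XIsoOfEq (show i = j - 1 by lia)).hom else 0

/-- the component from `H` -/
noncomputable def aInl (i : ℤ) : H.X i ⟶ Q.X (i - 1) :=
  (mappingCone.inl v).v i (i - 1) (by lia) ≫ a.f (i - 1)

lemma aInr_eq (i j : ℤ) (h : i + 1 = j) :
    aInr v a i j = (mappingCone.inr v).f i ≫ a.f i ≫ (Q.XIsoOfEq (show i = j - 1 by lia)).hom :=
  dif_pos h

lemma d_aInr (i j k : ℤ) (hij : i + 1 = j) (hjk : j + 1 = k) :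
    K.d i j ≫ aInr v a j k = aInr v a i j ≫ Q.d (j - 1) (k - 1) := by
  obtain rfl : j = i + 1 := hij.symm
  rw [aInr_eq v a i (i + 1) rfl, aInr_eq v a (i + 1) k hjk, ← (mappingCone.inr v).comm_assoc,
    ← a.comm_assoc]
  simp

lemma d_aInl (i j : ℤ) (hij : i + 1 = j) :
    v.f i ≫ aInr v a i j = aInl v a i ≫ Q.d (i - 1) (j - 1) + H.d i j ≫ aInl v a j := by
  obtain rfl : i = j - 1 := by lia
  rw [aInr_eq v a (j - 1) j hij, aInl, aInl, Category.assoc, a.comm,
    mappingCone.inl_v_d_assoc v (j - 1) (j - 1 - 1) j (by lia) (by lia)]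
  simp

/-- the coextension of `K` -/
noncomputable def coext : CochainComplex A ℤ where
  X n := K.X n ⊞ Q.X (n - 1)
  d i j := biprod.lift (biprod.fst ≫ K.d i j)
    (biprod.fst ≫ aInr v a i j - biprod.snd ≫ Q.d (i - 1) (j - 1))
  shape i j h := by
    rw [K.shape i j h, Q.shape (i - 1) (j - 1) (by simp at h ⊢; lia),
      show aInr v a i j = 0 from dif_neg h]
    ext <;> simp
  d_comp_d' i j k hij hjk := by
    refine biprod.hom_ext _ _ ?_ ?_
    · simp
    · simp only [Category.assoc, biprod.lift_snd, zero_comp, Preadditive.comp_sub,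
        biprod.lift_fst_assoc, biprod.lift_snd_assoc, Preadditive.sub_comp, Q.d_comp_d, comp_zero,
        sub_zero, d_aInr v a i j k hij hjk]
      simp

/-- the projection -/
noncomputable def coextπ : coext v a ⟶ K where
  f n := biprod.fst
  comm' i j _ := (biprod.lift_fst _ _).symm

/-- the map from `H` -/
noncomputable def coextι : H ⟶ coext v a where
  f n := biprod.lift (v.f n) (aInl v a n)
  comm' i j hij := by
    refine biprod.hom_ext _ _ ?_ ?_
    · simp [coext]
    · simp [coext, d_aInl v a i j hij]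

lemma coextι_coextπ : coextι v a ≫ coextπ v a = v := by
  ext n
  exact biprod.lift_fst _ _

lemma mono_coextι (h : ∀ n, Mono (a.f n)) (n : ℤ) : Mono ((coextι v a).f n) := by
  haveI := h (n - 1)
  haveI : IsSplitMono ((mappingCone.inl v).v n (n - 1) (by lia)) :=
    IsSplitMono.mk' ⟨(mappingCone.fst v).1.v (n - 1) n (by lia), by simp⟩
  haveI : Mono (aInl v a n) := mono_comp _ _
  exact mono_of_mono_fac (show (coextι v a).f n ≫ biprod.snd = aInl v a n from
    biprod.lift_snd _ _)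

variable [QuasiIso a]

lemma mono_homologyMap_coextι (n : ℤ) : Mono (homologyMap (coextι v a) n) := by
  rw [mono_homologyMap_iff_up_to_refinements _ (n - 1) n (n + 1) (by simp) (by simp)]
  intro T h hh x hx
  have hx₁ := congrArg (fun t => t ≫ biprod.fst) hx
  have hx₂ := congrArg (fun t => t ≫ biprod.snd) hx
  simp [coext, coextι, aInl, aInr_eq v a (n - 1) n (by lia)] at hx₁ hx₂
  obtain ⟨T', π, hπ, c, hc⟩ := exists_lift_boundary a (n - 1)
    (h ≫ (mappingCone.inl v).v n (n - 1) (by lia) -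
      x ≫ biprod.fst ≫ (mappingCone.inr v).f (n - 1))
    (by
      rw [show n - 1 + 1 = n by lia, Preadditive.sub_comp, Category.assoc,
        mappingCone.inl_v_d v n (n - 1) (n + 1) (by lia) (by lia)]
      simp [reassoc_of% hh, reassoc_of% hx₁])
    (-(x ≫ biprod.snd)) (by simp [hx₂])
  refine ⟨T', π, hπ, -(c ≫ (mappingCone.fst v).1.v (n - 1 - 1) (n - 1) (by lia)), ?_⟩
  have := congrArg (fun t => t ≫ (mappingCone.fst v).1.v (n - 1) n (by lia)) hc
  simp [mappingCone.d_fst_v v (n - 1 - 1) (n - 1) n (by lia) (by lia)] at this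
  simp [this]

lemma epi_homologyMap_coextι (n : ℤ) : Epi (homologyMap (coextι v a) n) := by
  rw [epi_homologyMap_iff_up_to_refinements _ (n - 1) n (n + 1) (by simp) (by simp)]
  intro T x hx
  have hx₁ := congrArg (fun t => t ≫ biprod.fst) hx
  have hx₂ := congrArg (fun t => t ≫ biprod.snd ≫ (Q.XIsoOfEq (show n + 1 - 1 = n by lia)).hom) hx
  simp [coext, aInr_eq v a n (n + 1) rfl, sub_eq_zero] at hx₁ hx₂
  obtain ⟨T', π, hπ, c, hc⟩ := exists_lift_boundary a n
    (x ≫ biprod.fst ≫ (mappingCone.inr v).f n)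
    (by simp [reassoc_of% hx₁])
    (x ≫ biprod.snd) (by simp [hx₂])
  have hc₁ := congrArg (fun t => t ≫ (mappingCone.fst v).1.v n (n + 1) rfl) hc
  simp [mappingCone.d_fst_v v (n - 1) n (n + 1) (by lia) rfl] at hc₁
  have hc₂ := congrArg (fun t => t ≫ (mappingCone.snd v).v n n (add_zero n)) hc
  simp [mappingCone.d_snd_v v (n - 1) n (by lia)] at hc₂
  obtain ⟨T'', π', hπ', c', hc', q, hq⟩ := exists_lift_cycle a (n - 1)
    (π ≫ x ≫ biprod.snd - c ≫ a.f (n - 1))
    (by
      rw [show n - 1 + 1 = n by lia, Preadditive.sub_comp, Category.assoc, Category.assoc,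
        Category.assoc, a.comm, ← reassoc_of% hc, hx₂]
      simp)
  rw [show n - 1 + 1 = n by lia] at hc'
  have hc'₁ := congrArg (fun t => t ≫ (mappingCone.fst v).1.v n (n + 1) rfl) hc'
  simp [mappingCone.d_fst_v v (n - 1) n (n + 1) (by lia) rfl] at hc'₁
  have hc'₂ := congrArg (fun t => t ≫ (mappingCone.snd v).v n n (add_zero n)) hc'
  simp [mappingCone.d_snd_v v (n - 1) n (by lia)] at hc'₂
  refine ⟨T'', π' ≫ π, inferInstance,
    (π' ≫ c + c') ≫ (mappingCone.fst v).1.v (n - 1) n (by lia), ?_,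
    ((π' ≫ c + c') ≫ (mappingCone.snd v).v (n - 1) (n - 1) (add_zero _)) ≫ biprod.inl -
      q ≫ biprod.inr, ?_⟩
  · simp [hc₁, hc'₁]
  · refine biprod.hom_ext _ _ ?_ ?_
    · simp [coext, coextι, hc₂]
      rw [← sub_eq_zero]
      refine neg_eq_zero.1 (Eq.trans ?_ hc'₂)
      abel
    · simp [coext, coextι, aInl, aInr_eq v a (n - 1) n (by lia)]
      rw [Preadditive.comp_sub, sub_eq_iff_eq_add] at hq
      refine Eq.trans hq ?_
      have hid : (mappingCone.fst v).1.v (n - 1) n (by lia) ≫ (mappingCone.inl v).v n (n - 1) (by lia) +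
          (mappingCone.snd v).v (n - 1) (n - 1) (add_zero _) ≫ (mappingCone.inr v).f (n - 1) = 𝟙 _ :=
        mappingCone.id_X v (n - 1) n (by lia)
      have e : ∀ {S : A} (t : S ⟶ (mappingCone v).X (n - 1)), t ≫ a.f (n - 1) =
          t ≫ (mappingCone.fst v).1.v (n - 1) n (by lia) ≫ (mappingCone.inl v).v n (n - 1) (by lia) ≫
              a.f (n - 1) +
            t ≫ (mappingCone.snd v).v (n - 1) (n - 1) (add_zero _) ≫ (mappingCone.inr v).f (n - 1) ≫
              a.f (n - 1) := fun t => by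
        rw [← Preadditive.comp_add, ← Category.assoc _ _ (a.f _), ← Category.assoc _ _ (a.f _),
          ← Preadditive.add_comp, hid, Category.id_comp]
      rw [e c', e c]
      simp
      abel

lemma quasiIso_coextι : QuasiIso (coextι v a) where
  quasiIsoAt n := by
    rw [quasiIsoAt_iff_isIso_homologyMap]
    haveI := mono_homologyMap_coextι v a n
    haveI := epi_homologyMap_coextι v a n
    exact isIso_of_mono_of_epi _

end Right

section Exists

variable {P : A → Prop} (hP0 : ∃ Z : A, IsZero Z ∧ P Z)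

lemma isZero_mappingCone_X {K L : CochainComplex A ℤ} (f : K ⟶ L) (i : ℤ)
    (hK : IsZero (K.X (i + 1))) (hL : IsZero (L.X i)) : IsZero ((mappingCone f).X i) :=
  ((biprod_isZero_iff _ _).2 ⟨hK, hL⟩).of_iso (homotopyCofiber.XIsoBiprod f i (i + 1) rfl)

include hP0 in
/-- a map from a bounded above complex extends along a degreewise split injection to an epimorphic
quasi-isomorphism -/
theorem exists_left_extension (hP : ∀ X : A, ∃ (Y : A) (π : Y ⟶ X), P Y ∧ Epi π)
    {K H : CochainComplex A ℤ} (u : K ⟶ H) (b : ℤ) [K.IsStrictlyLE b] [H.IsStrictlyLE b] :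
    ∃ (N : CochainComplex A ℤ) (j : K ⟶ N) (p : N ⟶ H),
      j ≫ p = u ∧ N.IsStrictlyLE b ∧ QuasiIso p ∧ (∀ n, Epi (p.f n)) ∧
      ∀ n, ∃ (C : A) (e : N.X n ≅ K.X n ⊞ C), P C ∧ j.f n ≫ e.hom = biprod.inl := by
  haveI : (mappingCone u).IsStrictlyLE b := (CochainComplex.isStrictlyLE_iff _ b).2 fun i hi =>
    isZero_mappingCone_X u i (K.isZero_of_isStrictlyLE b _ (by lia)) (H.isZero_of_isStrictlyLE b i hi)
  obtain ⟨Q, a, hQ, hQP, hae, haq⟩ := exists_left_resolution hP0 hP (mappingCone u) b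
  refine ⟨ext u a, extι u a, extπ u a, extι_extπ u a,
    (CochainComplex.isStrictlyLE_iff _ b).2 fun i hi => (biprod_isZero_iff _ _).2
      ⟨K.isZero_of_isStrictlyLE b i hi, Q.isZero_of_isStrictlyLE b i hi⟩,
    quasiIso_extπ u a, epi_extπ u a hae, fun n => ⟨Q.X n, Iso.refl _, hQP n, ?_⟩⟩
  exact Category.comp_id _

include hP0 in
/-- a map to a bounded below complex lifts along a degreewise split surjection to a monomorphic
quasi-isomorphism -/
theorem exists_right_coextension (hP : ∀ X : A, ∃ (Y : A) (ι : X ⟶ Y), P Y ∧ Mono ι)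
    {H K : CochainComplex A ℤ} (v : H ⟶ K) (b : ℤ) [K.IsStrictlyGE b] [H.IsStrictlyGE b] :
    ∃ (N : CochainComplex A ℤ) (i : H ⟶ N) (p : N ⟶ K),
      i ≫ p = v ∧ N.IsStrictlyGE b ∧ QuasiIso i ∧ (∀ n, Mono (i.f n)) ∧
      ∀ n, ∃ (C : A) (e : N.X n ≅ K.X n ⊞ C), P C ∧ e.hom ≫ biprod.fst = p.f n := by
  haveI : (mappingCone v).IsStrictlyGE (b - 1) := (CochainComplex.isStrictlyGE_iff _ (b - 1)).2 fun i hi =>
    isZero_mappingCone_X v i (H.isZero_of_isStrictlyGE b _ (by lia)) (K.isZero_of_isStrictlyGE b i (by lia))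
  obtain ⟨Q, a, hQ, hQP, hae, haq⟩ := exists_right_resolution hP0 hP (mappingCone v) (b - 1)
  refine ⟨coext v a, coextι v a, coextπ v a, coextι_coextπ v a,
    (CochainComplex.isStrictlyGE_iff _ b).2 fun i hi => (biprod_isZero_iff _ _).2
      ⟨K.isZero_of_isStrictlyGE b i hi, Q.isZero_of_isStrictlyGE (b - 1) (i - 1) (by lia)⟩,
    quasiIso_coextι v a, mono_coextι v a hae, fun n => ⟨Q.X (n - 1), Iso.refl _, hQP _, ?_⟩⟩
  exact Category.id_comp _

end Exists

end Groth.Agent.CohDerRes
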