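import Groth.Agent.CohDerRes.Relative
import Mathlib.Algebra.Homology.HomologySequenceLemmas

/-!
Systems of resolutions of the canonical truncations; resolutions of short exact sequences.
-/

set_option autoImplicit false
set_option linter.unusedSectionVars false
set_option linter.style.haveILetI false
set_option backward.isDefEq.respectTransparency false
universe v u

namespace Groth.Agent.CohDerRes

open CategoryTheory Limits HomologicalComplex CochainComplex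
open scoped ZeroObject

variable {A : Type u} [Category.{v} A] [Abelian A]

lemma split_of_iso_inl {X Y C : A} {f : X ⟶ Y} (e : Y ≅ X ⊞ C) (he : f ≫ e.hom = biprod.inl) :
    (∃ r : Y ⟶ X, f ≫ r = 𝟙 _) ∧ Nonempty (cokernel f ≅ C) := by
  refine ⟨⟨e.hom ≫ biprod.fst, by rw [reassoc_of% he, biprod.inl_fst]⟩, ⟨?_⟩⟩
  refine
    { hom := cokernel.desc f (e.hom ≫ biprod.snd) (by rw [reassoc_of% he, biprod.inl_snd])
      inv := biprod.inr ≫ e.inv ≫ cokernel.π f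
      hom_inv_id := ?_
      inv_hom_id := by simp }
  rw [← cancel_epi (cokernel.π f), cokernel.π_desc_assoc, Category.comp_id, Category.assoc,
    ← cancel_epi e.inv, e.inv_hom_id_assoc]
  refine biprod.hom_ext' _ _ ?_ (by simp)
  rw [biprod.inl_snd_assoc, zero_comp, ← Category.assoc biprod.inl, ← he]
  simp

lemma split_of_iso_fst {X Y C : A} {p : Y ⟶ X} (e : Y ≅ X ⊞ C) (he : e.hom ≫ biprod.fst = p) :
    (∃ s : X ⟶ Y, s ≫ p = 𝟙 _) ∧ Nonempty (kernel p ≅ C) := by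
  subst he
  refine ⟨⟨biprod.inl ≫ e.inv, by simp⟩, ⟨?_⟩⟩
  refine
    { hom := kernel.ι _ ≫ e.hom ≫ biprod.snd
      inv := kernel.lift _ (biprod.inr ≫ e.inv) (by simp)
      hom_inv_id := ?_
      inv_hom_id := by simp }
  rw [← cancel_mono (kernel.ι (e.hom ≫ biprod.fst)), Category.assoc, kernel.lift_ι, Category.id_comp,
    ← cancel_mono e.hom]
  refine biprod.hom_ext _ _ ?_ (by simp)
  simp [kernel.condition (e.hom ≫ biprod.fst)]

lemma exists_truncLE_step (G : CochainComplex A ℤ) (p q : ℤ) (hpq : p ≤ q) :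
    ∃ h : G.truncLE p ⟶ G.truncLE q, h ≫ G.ιTruncLE q = G.ιTruncLE p := by
  haveI : (G.truncLE p).IsStrictlyLE q := (G.truncLE p).isStrictlyLE_of_le p q hpq
  haveI : IsIso ((G.truncLE p).ιTruncLE q) :=
    inferInstanceAs (IsIso (HomologicalComplex.ιTruncLE (G.truncLE p) (ComplexShape.embeddingUpIntLE q)))
  refine ⟨inv ((G.truncLE p).ιTruncLE q) ≫ CochainComplex.truncLEMap (G.ιTruncLE p) q, ?_⟩
  rw [Category.assoc, CochainComplex.ιTruncLE_naturality, IsIso.inv_hom_id_assoc]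

lemma exists_truncGE_step (G : CochainComplex A ℤ) (p q : ℤ) (hpq : p ≤ q) :
    ∃ h : G.truncGE p ⟶ G.truncGE q, G.πTruncGE p ≫ h = G.πTruncGE q := by
  haveI : (G.truncGE q).IsStrictlyGE p := (G.truncGE q).isStrictlyGE_of_ge p q hpq
  haveI : IsIso ((G.truncGE q).πTruncGE p) :=
    inferInstanceAs (IsIso (HomologicalComplex.πTruncGE (G.truncGE q) (ComplexShape.embeddingUpIntGE p)))
  refine ⟨CochainComplex.truncGEMap (G.πTruncGE q) p ≫ inv ((G.truncGE q).πTruncGE p), ?_⟩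
  rw [CochainComplex.πTruncGE_naturality_assoc, IsIso.hom_inv_id, Category.comp_id]

section LeftSystem

variable {P : ObjectProperty A} [P.IsClosedUnderIsomorphisms]

/-- a special direct system of left resolutions -/
theorem exists_left_system (hP0 : ∃ Z : A, IsZero Z ∧ P Z)
    (hPsum : ∀ X Y : A, P X → P Y → P (X ⊞ Y)) (hP : ∀ X : A, ∃ (Y : A) (π : Y ⟶ X), P Y ∧ Epi π)
    (K : CochainComplex A ℤ) :
    ∃ (Q : ℕ → CochainComplex A ℤ) (ι : ∀ n, Q n ⟶ Q (n + 1))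
      (π : ∀ n : ℕ, Q n ⟶ K.truncLE (n : ℤ)),
      (∀ n, QuasiIso (π n) ∧ ∀ i, Epi ((π n).f i)) ∧ (∀ n, ∃ b : ℤ, (Q n).IsStrictlyLE b) ∧
      (∀ n i, P ((Q n).X i)) ∧
      (∀ n i, (∃ r : (Q (n + 1)).X i ⟶ (Q n).X i, (ι n).f i ≫ r = 𝟙 _) ∧
        P (cokernel ((ι n).f i))) ∧
      (∀ n : ℕ, π n ≫ K.ιTruncLE (n : ℤ) = ι n ≫ π (n + 1) ≫ K.ιTruncLE ((n + 1 : ℕ) : ℤ)) := by
  obtain ⟨Z, hZ, hPZ⟩ := hP0
  choose h hh using fun n : ℕ => exists_truncLE_step K (n : ℤ) ((n + 1 : ℕ) : ℤ) (by lia)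
  let Sys : ℕ → Type _ := fun n =>
    {s : Σ N : CochainComplex A ℤ, N ⟶ K.truncLE (n : ℤ) //
      s.1.IsStrictlyLE (n : ℤ) ∧ (QuasiIso s.2 ∧ ∀ i, Epi (s.2.f i)) ∧ ∀ i, P (s.1.X i)}
  have base : Nonempty (Sys 0) := by
    let O : CochainComplex A ℤ := (single A (ComplexShape.up ℤ) 0).obj (0 : A)
    have hO : ∀ i, IsZero (O.X i) := fun i =>
      Functor.map_isZero (eval A (ComplexShape.up ℤ) i)
        (Functor.map_isZero (single A (ComplexShape.up ℤ) 0) (Limits.isZero_zero A))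
    haveI : O.IsStrictlyLE ((0 : ℕ) : ℤ) := (CochainComplex.isStrictlyLE_iff _ _).2 fun i _ => hO i
    obtain ⟨N, j, p, -, hN, hq, he, hX⟩ := exists_left_extension (P := P) ⟨Z, hZ, hPZ⟩ hP
      (0 : O ⟶ K.truncLE ((0 : ℕ) : ℤ)) ((0 : ℕ) : ℤ)
    refine ⟨⟨⟨N, p⟩, hN, ⟨hq, he⟩, fun i => ?_⟩⟩
    obtain ⟨C, e, hC, -⟩ := hX i
    exact P.prop_of_iso e.symm (hPsum _ _ (P.prop_of_iso (hZ.iso (hO i)) hPZ) hC)
  have step : ∀ n (s : Sys n), ∃ (t : Sys (n + 1)) (j : s.1.1 ⟶ t.1.1),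
      j ≫ t.1.2 = s.1.2 ≫ h n ∧
      ∀ i, (∃ r : t.1.1.X i ⟶ s.1.1.X i, j.f i ≫ r = 𝟙 _) ∧ P (cokernel (j.f i)) := by
    intro n s
    obtain ⟨⟨N₀, p₀⟩, hN₀, -, hP₀⟩ := s
    haveI : N₀.IsStrictlyLE ((n + 1 : ℕ) : ℤ) := N₀.isStrictlyLE_of_le (n : ℤ) _ (by lia)
    obtain ⟨N, j, p, hw, hN, hq, he, hX⟩ := exists_left_extension (P := P) ⟨Z, hZ, hPZ⟩ hP
      (p₀ ≫ h n) ((n + 1 : ℕ) : ℤ)
    choose C e hC hj using hX
    refine ⟨⟨⟨N, p⟩, hN, ⟨hq, he⟩, fun i => P.prop_of_iso (e i).symm (hPsum _ _ (hP₀ i) (hC i))⟩,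
      j, hw, fun i => ?_⟩
    obtain ⟨hr, ⟨i'⟩⟩ := split_of_iso_inl (e i) (hj i)
    exact ⟨hr, P.prop_of_iso i'.symm (hC i)⟩
  choose t j hw hsplit using step
  let S : ∀ n, Sys n := fun n => Nat.rec base.some (fun n s => t n s) n
  refine ⟨fun n => (S n).1.1, fun n => j n (S n), fun n => (S n).1.2, fun n => (S n).2.2.1,
    fun n => ⟨n, (S n).2.1⟩, fun n => (S n).2.2.2, fun n => hsplit n (S n), fun n => ?_⟩
  rw [← hh n, ← Category.assoc, ← Category.assoc]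
  exact congrArg (fun f => f ≫ K.ιTruncLE _) (hw n (S n)).symm

end LeftSystem

section RightSystem

variable {I : ObjectProperty A} [I.IsClosedUnderIsomorphisms]

/-- a special inverse system of right resolutions -/
theorem exists_right_system (hI0 : ∃ Z : A, IsZero Z ∧ I Z)
    (hIprod : ∀ X Y : A, I X → I Y → I (X ⊞ Y)) (hI : ∀ X : A, ∃ (Y : A) (ι : X ⟶ Y), I Y ∧ Mono ι)
    (K : CochainComplex A ℤ) :
    ∃ (Q : ℕ → CochainComplex A ℤ) (p : ∀ n, Q (n + 1) ⟶ Q n)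
      (π : ∀ n : ℕ, K.truncGE (-(n : ℤ)) ⟶ Q n),
      (∀ n, QuasiIso (π n) ∧ ∀ i, Mono ((π n).f i)) ∧ (∀ n, ∃ a : ℤ, (Q n).IsStrictlyGE a) ∧
      (∀ n i, I ((Q n).X i)) ∧
      (∀ n i, (∃ s : (Q n).X i ⟶ (Q (n + 1)).X i, s ≫ (p n).f i = 𝟙 _) ∧
        I (kernel ((p n).f i))) ∧
      (∀ n : ℕ, K.πTruncGE (-((n + 1 : ℕ) : ℤ)) ≫ π (n + 1) ≫ p n =
        K.πTruncGE (-(n : ℤ)) ≫ π n) := by
  obtain ⟨Z, hZ, hIZ⟩ := hI0
  choose h hh using fun n : ℕ =>
    exists_truncGE_step K (-((n + 1 : ℕ) : ℤ)) (-(n : ℤ)) (by lia)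
  let Sys : ℕ → Type _ := fun n =>
    {s : Σ N : CochainComplex A ℤ, K.truncGE (-(n : ℤ)) ⟶ N //
      s.1.IsStrictlyGE (-(n : ℤ)) ∧ (QuasiIso s.2 ∧ ∀ i, Mono (s.2.f i)) ∧ ∀ i, I (s.1.X i)}
  have base : Nonempty (Sys 0) := by
    let O : CochainComplex A ℤ := (single A (ComplexShape.up ℤ) 0).obj (0 : A)
    have hO : ∀ i, IsZero (O.X i) := fun i =>
      Functor.map_isZero (eval A (ComplexShape.up ℤ) i)
        (Functor.map_isZero (single A (ComplexShape.up ℤ) 0) (Limits.isZero_zero A))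
    haveI : O.IsStrictlyGE (-((0 : ℕ) : ℤ)) :=
      (CochainComplex.isStrictlyGE_iff _ _).2 fun i _ => hO i
    obtain ⟨N, j, p, -, hN, hq, he, hX⟩ := exists_right_coextension (P := I) ⟨Z, hZ, hIZ⟩ hI
      (0 : K.truncGE (-((0 : ℕ) : ℤ)) ⟶ O) (-((0 : ℕ) : ℤ))
    refine ⟨⟨⟨N, j⟩, hN, ⟨hq, he⟩, fun i => ?_⟩⟩
    obtain ⟨C, e, hC, -⟩ := hX i
    exact I.prop_of_iso e.symm (hIprod _ _ (I.prop_of_iso (hZ.iso (hO i)) hIZ) hC)
  have step : ∀ n (s : Sys n), ∃ (t : Sys (n + 1)) (p : t.1.1 ⟶ s.1.1),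
      t.1.2 ≫ p = h n ≫ s.1.2 ∧
      ∀ i, (∃ r : s.1.1.X i ⟶ t.1.1.X i, r ≫ p.f i = 𝟙 _) ∧ I (kernel (p.f i)) := by
    intro n s
    obtain ⟨⟨N₀, p₀⟩, hN₀, -, hP₀⟩ := s
    haveI : N₀.IsStrictlyGE (-((n + 1 : ℕ) : ℤ)) := N₀.isStrictlyGE_of_ge _ (-(n : ℤ)) (by lia)
    obtain ⟨N, j, p, hw, hN, hq, he, hX⟩ := exists_right_coextension (P := I) ⟨Z, hZ, hIZ⟩ hI
      (h n ≫ p₀) (-((n + 1 : ℕ) : ℤ))
    choose C e hC hj using hX
    refine ⟨⟨⟨N, j⟩, hN, ⟨hq, he⟩, fun i => I.prop_of_iso (e i).symm (hIprod _ _ (hP₀ i) (hC i))⟩,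
      p, hw, fun i => ?_⟩
    obtain ⟨hr, ⟨i'⟩⟩ := split_of_iso_fst (e i) (hj i)
    exact ⟨hr, I.prop_of_iso i'.symm (hC i)⟩
  choose t p hw hsplit using step
  let S : ∀ n, Sys n := fun n => Nat.rec base.some (fun n s => t n s) n
  refine ⟨fun n => (S n).1.1, fun n => p n (S n), fun n => (S n).1.2, fun n => (S n).2.2.1,
    fun n => ⟨_, (S n).2.1⟩, fun n => (S n).2.2.2, fun n => hsplit n (S n), fun n => ?_⟩
  rw [← hh n, Category.assoc]
  exact congrArg (fun f => K.πTruncGE _ ≫ f) (hw n (S n))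

end RightSystem

section ShortExact

lemma mono_of_degreewise {K L : CochainComplex A ℤ} (f : K ⟶ L) (h : ∀ n, Mono (f.f n)) : Mono f :=
  haveI := h
  HomologicalComplex.mono_of_mono_f f h

open ComposableArrows in
lemma quasiIso_τ₁ {S₁ S₂ : ShortComplex (CochainComplex A ℤ)} (φ : S₁ ⟶ S₂) (h₁ : S₁.ShortExact)
    (h₂ : S₂.ShortExact) [QuasiIso φ.τ₂] [QuasiIso φ.τ₃] : QuasiIso φ.τ₁ where
  quasiIsoAt i := by
    rw [quasiIsoAt_iff_isIso_homologyMap]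
    let F := δ₀Functor.map (HomologySequence.mapComposableArrows₅ φ h₁ h₂ (i - 1) i (by simp))
    exact CategoryTheory.Abelian.isIso_of_epi_of_isIso_of_isIso_of_mono
      (HomologySequence.composableArrows₅_exact h₁ (i - 1) i (by simp)).δ₀
      (HomologySequence.composableArrows₅_exact h₂ (i - 1) i (by simp)).δ₀ F
      (inferInstance : Epi (homologyMap φ.τ₂ (i - 1)))
      (inferInstance : IsIso (homologyMap φ.τ₃ (i - 1)))
      (inferInstance : IsIso (homologyMap φ.τ₂ i))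
      (inferInstance : Mono (homologyMap φ.τ₃ i))

/-- projective resolution of a short exact sequence -/
theorem exists_shortExact_projective [EnoughProjectives A] (S : ShortComplex (CochainComplex A ℤ))
    (hS : S.ShortExact) (n : ℤ) [S.X₁.IsStrictlyLE n] [S.X₂.IsStrictlyLE n] :
    ∃ (T : ShortComplex (CochainComplex A ℤ)) (φ : T ⟶ S), T.ShortExact ∧ T.X₁.IsStrictlyLE n ∧
      T.X₂.IsStrictlyLE n ∧ T.X₃.IsStrictlyLE n ∧
      (∀ k : ℤ, Projective (T.X₁.X k) ∧ Projective (T.X₂.X k) ∧ Projective (T.X₃.X k)) ∧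
      QuasiIso φ.τ₁ ∧ QuasiIso φ.τ₂ ∧ QuasiIso φ.τ₃ := by
  have hP : ∀ X : A, ∃ (Y : A) (π : Y ⟶ X), Projective Y ∧ Epi π :=
    fun X => ⟨Projective.over X, Projective.π X, inferInstance, inferInstance⟩
  have h0 : ∃ Z : A, IsZero Z ∧ Projective Z := ⟨0, Limits.isZero_zero A, Projective.zero_projective⟩
  obtain ⟨P₁, a, hP₁, hP₁', -, ha⟩ := exists_left_resolution (P := fun X => Projective X) h0 hP S.X₁ n
  obtain ⟨P₂, j, p, hw, hP₂, hp, -, hX⟩ :=
    exists_left_extension (P := fun X => Projective X) h0 hP (a ≫ S.f) n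
  choose C e hC hj using hX
  have hC' : ∀ k, Projective ((cokernel j).X k) := fun k => by
    obtain ⟨-, ⟨i⟩⟩ := split_of_iso_inl (e k) (hj k)
    haveI := hC k
    exact Projective.of_iso
      (i.symm ≪≫ (PreservesCokernel.iso (eval A (ComplexShape.up ℤ) k) j).symm) inferInstance
  have hjm : ∀ k, Mono (j.f k) := fun k => by
    haveI : IsSplitMono (j.f k) := IsSplitMono.mk' ⟨(e k).hom ≫ biprod.fst, by
      rw [reassoc_of% (hj k), biprod.inl_fst]⟩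
    infer_instance
  haveI := mono_of_degreewise j hjm
  let T : ShortComplex (CochainComplex A ℤ) := ShortComplex.mk j (cokernel.π j) (cokernel.condition j)
  have hT : T.ShortExact :=
    ShortComplex.ShortExact.mk' (ShortComplex.exact_cokernel j) inferInstance inferInstance
  let φ : T ⟶ S :=
    { τ₁ := a
      τ₂ := p
      τ₃ := cokernel.desc j (p ≫ S.g) (by rw [reassoc_of% hw, S.zero, comp_zero])
      comm₁₂ := hw.symm
      comm₂₃ := (cokernel.π_desc _ _ _).symm }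
  refine ⟨T, φ, hT, hP₁, hP₂, ?_, fun k => ⟨hP₁' k, ?_, hC' k⟩, ha, hp,
    HomologicalComplex.HomologySequence.quasiIso_τ₃ φ hT hS ha hp⟩
  · refine (CochainComplex.isStrictlyLE_iff _ n).2 fun i hi => ?_
    exact IsZero.of_epi ((cokernel.π j).f i) (P₂.isZero_of_isStrictlyLE n i hi)
  · haveI := hC k
    haveI := hP₁' k
    exact Projective.of_iso (e k).symm inferInstance

/-- injective resolution of a short exact sequence -/
theorem exists_shortExact_injective [EnoughInjectives A] (S : ShortComplex (CochainComplex A ℤ))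
    (hS : S.ShortExact) (n : ℤ) [S.X₂.IsStrictlyGE n] [S.X₃.IsStrictlyGE n] :
    ∃ (T : ShortComplex (CochainComplex A ℤ)) (φ : S ⟶ T), T.ShortExact ∧ T.X₁.IsStrictlyGE n ∧
      T.X₂.IsStrictlyGE n ∧ T.X₃.IsStrictlyGE n ∧
      (∀ k : ℤ, Injective (T.X₁.X k) ∧ Injective (T.X₂.X k) ∧ Injective (T.X₃.X k)) ∧
      QuasiIso φ.τ₁ ∧ QuasiIso φ.τ₂ ∧ QuasiIso φ.τ₃ := by
  have hP : ∀ X : A, ∃ (Y : A) (ι : X ⟶ Y), Injective Y ∧ Mono ι :=
    fun X => ⟨Injective.under X, Injective.ι X, inferInstance, inferInstance⟩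
  have h0 : ∃ Z : A, IsZero Z ∧ Injective Z := ⟨0, Limits.isZero_zero A, Injective.zero_injective⟩
  obtain ⟨I₃, a, hI₃, hI₃', -, ha⟩ := exists_right_resolution (P := fun X => Injective X) h0 hP S.X₃ n
  obtain ⟨I₂, i₂, q, hw, hI₂, hi₂, -, hX⟩ :=
    exists_right_coextension (P := fun X => Injective X) h0 hP (S.g ≫ a) n
  choose C e hC hq using hX
  have hC' : ∀ k, Injective ((kernel q).X k) := fun k => by
    obtain ⟨-, ⟨i⟩⟩ := split_of_iso_fst (e k) (hq k)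
    haveI := hC k
    exact Injective.of_iso
      (i.symm ≪≫ (PreservesKernel.iso (eval A (ComplexShape.up ℤ) k) q).symm) inferInstance
  have hqe : ∀ k, Epi (q.f k) := fun k => by
    haveI : IsSplitEpi (q.f k) := IsSplitEpi.mk' ⟨biprod.inl ≫ (e k).inv, by
      rw [← hq k]; simp⟩
    infer_instance
  haveI : Epi q := HomologicalComplex.epi_of_epi_f q hqe
  let T : ShortComplex (CochainComplex A ℤ) := ShortComplex.mk (kernel.ι q) q (kernel.condition q)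
  have hT : T.ShortExact :=
    ShortComplex.ShortExact.mk' (ShortComplex.exact_kernel q) inferInstance inferInstance
  let φ : S ⟶ T :=
    { τ₁ := kernel.lift q (S.f ≫ i₂) (by rw [Category.assoc, hw, S.zero_assoc, zero_comp])
      τ₂ := i₂
      τ₃ := a
      comm₁₂ := kernel.lift_ι _ _ _
      comm₂₃ := hw }
  refine ⟨T, φ, hT, ?_, hI₂, hI₃, fun k => ⟨hC' k, ?_, hI₃' k⟩,
    haveI := hi₂; haveI := ha; quasiIso_τ₁ φ hS hT, hi₂, ha⟩
  · refine (CochainComplex.isStrictlyGE_iff _ n).2 fun i hi => ?_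
    haveI : Mono ((kernel.ι q).f i) :=
      inferInstanceAs (Mono ((eval A (ComplexShape.up ℤ) i).map (kernel.ι q)))
    exact IsZero.of_mono ((kernel.ι q).f i) (I₂.isZero_of_isStrictlyGE n i hi)
  · haveI := hC k
    haveI := hI₃' k
    exact Injective.of_iso (e k).symm inferInstance

end ShortExact

end Groth.Agent.CohDerRes
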